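import Mathlib
import Cfsg.Agent.SectRankFour.OutAb
import Cfsg.Agent.Schreier.ClassPSp
import Cfsg.Agent.ClassicalGeometry.SympGamma
import Cfsg.Agent.S2600
import Cfsg.Agent.S2604
import Cfsg.Agent.H508.KB.Defs
import Cfsg.Prelude.Def_LieTypeChar

/-!
# S4822, AO3: the outer automorphism groups of `PSp_2m(q)` and `Ω_(2m+1)(q)` are abelian
-/

set_option autoImplicit false

namespace Cfsg.Agent.H832.AO3

open Cfsg Cfsg.Agent.SectRankFour.OutAb Cfsg.Agent.H508.KB
open Cfsg.Agent.ClassicalGeometry.SympAutSemi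

universe u

theorem outComm_of_out {K : Type u} [Group K] (h : ∀ a b : Cfsg.Out K, a * b = b * a) : OutComm K :=
  outComm_of_quotient h

theorem isSquare_comm {F : Type*} [Field F] [Finite F] (φ ψ : F ≃+* F) {l k : F} (hl : l ≠ 0)
    (hk : k ≠ 0) : IsSquare (l * φ k * ψ l⁻¹ * k⁻¹) := by
  obtain ⟨a, ha⟩ := Lib.AutSL2Out.isSquare_mul_map ψ l
  obtain ⟨b, hb⟩ := Lib.AutSL2Out.isSquare_mul_map φ k
  have h1 : ψ l ≠ 0 := by rwa [ne_eq, map_eq_zero]
  refine ⟨a * b * (ψ l)⁻¹ * k⁻¹, ?_⟩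
  rw [map_inv₀]
  have e1 : l * φ k * (ψ l)⁻¹ * k⁻¹ = (l * ψ l) * (k * φ k) * ((ψ l)⁻¹ * k⁻¹) ^ 2 := by
    field_simp
  rw [e1, ha, hb]
  ring

open Cfsg.Agent.ClassicalGeometry.SympGamma in
/-- similitudes with a square multiplier induce inner automorphisms -/
theorem mem_inn {F : Type*} [Field F] {m : ℕ} {g : semiSim m F} {l : F} (hl : l ≠ 0) (hs : IsSquare l)
    (h : IsSemi g.1 (RingEquiv.refl F) l) :
    Psi m F g ∈ (MulAut.conj : PSp m F →* MulAut (PSp m F)).range := by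
  obtain ⟨c, rfl⟩ := hs
  have hc : c ≠ 0 := by
    rintro rfl
    exact hl (mul_zero _)
  let a : Fˣ := (Units.mk0 c hc)⁻¹
  have ha : (a : F) * c = 1 := by
    show ((Units.mk0 c hc)⁻¹ : Fˣ) * c = 1
    rw [Units.val_inv_eq_inv_val, Units.val_mk0, inv_mul_cancel₀ hc]
  have hm1 : scal m F a ∈ semiSim m F := ⟨RingEquiv.refl F, (a : F) * a, mul_ne_zero a.ne_zero a.ne_zero, isSemi_scal a⟩
  have h1 : Psi m F (⟨scal m F a, hm1⟩ * g) = Psi m F g := by rw [map_mul, Psi_scal, one_mul]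
  rw [← h1]
  apply Schreier.ClassPSp.Psi_isom
  have h3 := (isSemi_scal (m := m) a).mul h
  have e2 : (a : F) * a * (RingEquiv.refl F) (c * c) = 1 := by
    rw [RingEquiv.refl_apply]
    calc (a : F) * a * (c * c) = ((a : F) * c) * (a * c) := by ring
      _ = 1 := by rw [ha, mul_one]
  rw [e2] at h3
  exact h3

/-- the outer automorphism group of `PSp_2m(q)` is abelian -/
theorem outComm_psp {F : Type} [Field F] [Fintype F] {m : ℕ} (hm : 2 ≤ m) : OutComm (PSp m F) := by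
  by_cases hcase : m = 2 ∧ (2 : F) = 0
  · obtain ⟨rfl, h2⟩ := hcase
    obtain ⟨p, hchar⟩ := CharP.exists F
    have hp : p.Prime := CharP.char_is_prime F p
    have h3 : p ∣ 2 := (CharP.cast_eq_zero_iff F p 2).1 (by exact_mod_cast h2)
    have hp2 : p = 2 := (Nat.prime_dvd_prime_iff_eq hp Nat.prime_two).1 h3
    subst hp2
    obtain ⟨f, -, hF⟩ := FiniteField.card F 2
    have h4 := (S2600.result (F := F) (f := f) f.pos hF).1
    apply outComm_of_out
    intro a b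
    obtain ⟨g, hg⟩ := h4
    obtain ⟨i, rfl⟩ := hg a
    obtain ⟨j, rfl⟩ := hg b
    show g ^ i * g ^ j = g ^ j * g ^ i
    rw [← zpow_add, ← zpow_add, add_comm]
  · have hex : ∀ x : MulAut (PSp m F), ∃ g : semiSim m F, Psi m F g = x := by
      intro x
      obtain ⟨g, hg⟩ := ClassicalGeometry.SympAutExists.exists_semi hm x
        (Cfsg.Agent.ClassicalGeometry.SympAutOddA.recog hm (by
          by_cases hm2 : m = 2
          · right
            intro h2
            exact hcase ⟨hm2, h2⟩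
          · left; omega) x)
      exact ⟨g, hg⟩
    intro α β
    obtain ⟨g, rfl⟩ := hex α
    obtain ⟨h, rfl⟩ := hex β
    obtain ⟨φ, l, hl, hg⟩ := g.2
    obtain ⟨ψ, k, hk, hh⟩ := h.2
    have h1 := Schreier.ClassPSp.IsSemi.comm hl hk hg hh
    have hne : l * φ k * ψ l⁻¹ * k⁻¹ ≠ 0 := by
      have h2 : φ k ≠ 0 := by rwa [ne_eq, map_eq_zero]
      have h3 : ψ l⁻¹ ≠ 0 := by rw [ne_eq, map_eq_zero]; exact inv_ne_zero hl
      exact mul_ne_zero (mul_ne_zero (mul_ne_zero hl h2) h3) (inv_ne_zero hk)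
    obtain ⟨s, hs⟩ := mem_inn (g := g * h * g⁻¹ * h⁻¹) hne (isSquare_comm φ ψ hl hk) h1
    refine ⟨s, fun x => ?_⟩
    rw [← map_inv, ← map_inv, ← map_mul, ← map_mul, ← map_mul, ← hs]
    rfl

/-- the outer automorphism group of `Ω_(2m+1)(q)` is abelian -/
theorem outComm_odd {F : Type} [Field F] [Fintype F] {m : ℕ} (hm : 3 ≤ m) (ho : Odd (Fintype.card F)) :
    OutComm (POmega F (quadFormOdd m F)) := by
  obtain ⟨p, hchar⟩ := CharP.exists F
  have hp : Fact p.Prime := ⟨CharP.char_is_prime F p⟩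
  obtain ⟨f, -, hF⟩ := FiniteField.card F p
  have hp2 : p ≠ 2 := by
    rintro rfl
    rw [hF] at ho
    exact (Nat.not_odd_iff_even.2 ((Nat.even_pow.2 ⟨even_two, f.pos.ne'⟩))) ho
  obtain ⟨e⟩ := S2604.result (F := F) (p := p) (f := f) (m := m) f.pos hF hp2 hm
  apply outComm_of_out
  intro a b
  apply e.injective
  rw [map_mul, map_mul, mul_comm]

theorem abOut_of_outComm (p : ℕ) {S : Type u} [Group S] (h : OutComm S) : AbOut p S := by
  intro P A _ _ α _ β _
  obtain ⟨s, hs⟩ := h α β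
  exact ⟨s, fun x _ => hs x⟩

section W

set_option linter.unusedVariables false

variable {p : ℕ} [Fact p.Prime]

variable (p) (S : Type u) [Group S] [Finite S] [IsSimpleGroup S]

/-- AO3, symplectic groups -/
theorem ab_psp {r : ℕ} [Fact r.Prime] (hrp : r ≠ p) (h5 : 5 ≤ p) (h : IsPSpChar r S) : AbOut p S := by
  obtain ⟨F, iF, iFt, iC, m, hm, -, ⟨e⟩⟩ := h
  exact abOut_of_outComm p ((outComm_psp hm).congr e.symm)

/-- AO3, orthogonal groups in odd dimension -/
theorem ab_omegaOdd {r : ℕ} [Fact r.Prime] (hrp : r ≠ p) (h5 : 5 ≤ p) (h : IsPOmegaOddChar r S) : AbOut p S := by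
  obtain ⟨F, iF, iFt, iC, m, hm, ho, ⟨e⟩⟩ := h
  exact abOut_of_outComm p ((outComm_odd hm ho).congr e.symm)

end W

end Cfsg.Agent.H832.AO3
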